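import Cfsg.Agent.H821.K547.Defs
import Cfsg.Agent.H535.K4.J1
import Cfsg.Agent.OddHalf.D4.Spor.J1Out

/-!
# S4547: the row of `J₁` (helper55)

* `rk_of_elem` : an elementary abelian group of order `2 ^ n`;
* `d3_j1`, `inn_j1`, `row`.
-/

set_option autoImplicit false

namespace Cfsg.Agent.H55.K547

open Cfsg Subgroup Cfsg.Agent.H821.K547

universe u

/-- an elementary abelian group of order `2 ^ n` -/
theorem rk_of_elem {P : Type u} [Group P] {n : ℕ} (hc : Nat.card P = 2 ^ n) (h : ∀ x : P, x * x = 1) : Rk n P := by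
  have hinv : ∀ x : P, x⁻¹ = x := fun x => inv_eq_of_mul_eq_one_left (h x)
  have hcomm : ∀ x y : P, x * y = y * x := by
    intro x y
    rw [← hinv (x * y), mul_inv_rev, hinv, hinv]
  let _ : CommGroup P := { (inferInstance : Group P) with mul_comm := hcomm }
  have hfin : Finite P := Nat.finite_of_card_ne_zero (by rw [hc]; positivity)
  have h2 : ∀ x : Additive P, (2 : ℕ) • x = 0 := by
    intro x
    rw [two_nsmul]
    exact h x
  let _ : Module (ZMod 2) (Additive P) := AddCommGroup.zmodModule h2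
  have hfin' : Finite (Additive P) := hfin
  have hfr : Module.finrank (ZMod 2) (Additive P) = n := by
    have h3 := Module.natCard_eq_pow_finrank (K := ZMod 2) (V := Additive P)
    have h4 : Nat.card (Additive P) = 2 ^ n := hc
    rw [h4, Nat.card_zmod] at h3
    exact (Nat.pow_right_injective (le_refl 2) h3).symm
  let e : Additive P ≃ₗ[ZMod 2] (Fin n → ZMod 2) := LinearEquiv.ofFinrankEq _ _ (by
    rw [hfr, Module.finrank_fin_fun])
  refine ⟨{ toFun := fun x => Multiplicative.ofAdd (e (Additive.ofMul x)), map_one' := ?_, map_mul' := ?_ }, ?_⟩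
  · show Multiplicative.ofAdd (e 0) = 1
    rw [map_zero]
    rfl
  · intro x y
    show Multiplicative.ofAdd (e (Additive.ofMul x + Additive.ofMul y)) = _
    rw [map_add]
    rfl
  · intro y
    obtain ⟨x, hx⟩ := e.surjective (Multiplicative.toAdd y)
    exact ⟨Additive.toMul x, congrArg Multiplicative.ofAdd hx⟩

/-- the Sylow 2-subgroups of `J₁` are elementary abelian of order 8 -/
theorem d3_j1 {S : Type u} [Group S] (h : Spor.IsoJ1 S) : D3 S := by
  obtain ⟨e⟩ := h
  have fact2 : Fact (Nat.Prime 2) := ⟨Nat.prime_two⟩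
  have hc : Nat.card S = 175560 := by rw [Nat.card_congr e.toEquiv, H413.JOneLocal.card_J1]
  have hfin : Finite S := Nat.finite_of_card_ne_zero (by rw [hc]; norm_num)
  intro Q
  refine rk_of_elem ?_ ?_
  · rw [Q.card_eq_multiplicity, hc]
    have h1 : (175560 : ℕ) = 2 ^ 3 * 21945 := by norm_num
    rw [h1, Nat.factorization_mul (by norm_num) (by norm_num), Nat.Prime.factorization_pow Nat.prime_two,
      Finsupp.add_apply, Finsupp.single_eq_same, Nat.factorization_eq_zero_of_not_dvd (by norm_num)]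
  · intro x
    obtain ⟨k, hk⟩ := (IsPGroup.iff_orderOf.1 Q.isPGroup') x
    have h1 : orderOf (e (x : S)) = 2 ^ k := by
      rw [← hk, MulEquiv.orderOf_eq]
      exact Subgroup.orderOf_coe x
    have h2 := H535.K4.J1.sq_of_pow h1
    rw [← map_mul] at h2
    apply Subtype.ext
    exact (map_eq_one_iff e e.injective).1 h2

/-- the automorphisms of `J₁` are inner -/
theorem inn_j1 {S : Type u} [Group S] (h : Spor.IsoJ1 S) (τ : MulAut S) : IsInn τ := by
  obtain ⟨e⟩ := h
  obtain ⟨k, hk⟩ := OddHalf.D4.Spor.J1Out.inn (MulAut.congr e τ)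
  refine ⟨e.symm k, fun x => ?_⟩
  have h1 : MulAut.congr e τ (e x) = k * e x * k⁻¹ := by
    rw [hk]
    rfl
  have h2 : MulAut.congr e τ (e x) = e (τ x) := by
    show e (τ (e.symm (e x))) = _
    rw [e.symm_apply_apply]
  rw [h2] at h1
  have h3 := congrArg e.symm h1
  rw [e.symm_apply_apply, map_mul, map_mul, map_inv, e.symm_apply_apply] at h3
  exact h3

/-- **the row of `J₁`** -/
theorem row {S : Type u} [Group S] (h : Spor.IsoJ1 S) : Row S where
  base := Or.inl ⟨H535.K4.J1.good5_j1 h, d3_j1 h⟩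
  ext := fun τ _ hτ => absurd (inn_j1 h τ) hτ

end Cfsg.Agent.H55.K547
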